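import Groth.Agent.Lib.UnitsRos.Domain
import Mathlib.RingTheory.Jacobson.Ring
import Mathlib.RingTheory.Nullstellensatz
import Mathlib.LinearAlgebra.TensorProduct.Finiteness
import Mathlib.LinearAlgebra.Dual.Lemmas

/-! # Units of a tensor product of two finitely generated domains over an algebraically closed field. -/

set_option autoImplicit false
set_option linter.style.haveILetI false
universe u

open TensorProduct

namespace Groth.Agent.UnitsRos

variable {k : Type u} [Field k] [IsAlgClosed k]

theorem exists_const {A : Type u} [CommRing A] [IsDomain A] [Algebra k A] {x : A} (h : IsAlgebraic k x) :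
    ∃ c : k, algebraMap k A c = x := by
  have hd : (minpoly k x).degree = 1 :=
    IsAlgClosed.degree_eq_one_of_irreducible k (minpoly.irreducible h.isIntegral)
  exact RingHom.mem_range.1 (minpoly.degree_eq_one_iff.1 hd)

/-- Functions on a reduced finitely generated algebra are determined by their values at points. -/
theorem exists_point_ne_zero {B : Type u} [CommRing B] [IsReduced B] [Algebra k B] [Algebra.FiniteType k B]
    {b : B} (hb : b ≠ 0) : ∃ χ : B →ₐ[k] k, χ b ≠ 0 := by
  haveI : IsJacobsonRing B := isJacobsonRing_of_finiteType (A := k)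
  have hrad : (⊥ : Ideal B).radical = (⊥ : Ideal B).jacobson := Ideal.radical_eq_jacobson _
  have hbot : (⊥ : Ideal B).jacobson = ⊥ := by
    rw [← hrad]
    exact nilradical_eq_zero B
  have hnot : b ∉ (⊥ : Ideal B).jacobson := by rw [hbot]; simpa using hb
  simp only [Ideal.jacobson, Submodule.mem_sInf, not_forall] at hnot
  obtain ⟨m, ⟨-, hm⟩, hbm⟩ := hnot
  haveI := hm
  letI := Ideal.Quotient.field m
  haveI : Algebra.FiniteType k (B ⧸ m) :=
    Algebra.FiniteType.of_surjective (Ideal.Quotient.mkₐ k m) (Ideal.Quotient.mk_surjective)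
  haveI : Module.Finite k (B ⧸ m) := finite_of_finite_type_of_isJacobsonRing k (B ⧸ m)
  haveI : Algebra.IsIntegral k (B ⧸ m) := Algebra.IsIntegral.of_finite k _
  let e : k ≃ₐ[k] B ⧸ m := AlgEquiv.ofBijective (Algebra.ofId k (B ⧸ m))
    (IsAlgClosed.algebraMap_bijective_of_isIntegral (k := k) (K := B ⧸ m))
  refine ⟨e.symm.toAlgHom.comp (Ideal.Quotient.mkₐ k m), fun h => hbm ?_⟩
  exact Ideal.Quotient.eq_zero_iff_mem.1 (e.symm.injective (h.trans (map_zero _).symm))

variable {A B : Type u} [CommRing A] [CommRing B] [Algebra k A] [Algebra k B]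

/-- Contraction of the left factor. -/
noncomputable def contr (l : A →ₗ[k] k) : A ⊗[k] B →ₗ[k] B :=
  (TensorProduct.lid k B).toLinearMap ∘ₗ l.rTensor B

omit [IsAlgClosed k] in
theorem contr_tmul (l : A →ₗ[k] k) (a : A) (b : B) : contr l (a ⊗ₜ[k] b) = l a • b := by simp [contr]

omit [IsAlgClosed k] in
theorem eq_zero_of_contr {x : A ⊗[k] B} (h : ∀ l, contr l x = 0) : x = 0 := by
  classical
  let b := Module.Free.chooseBasis k A
  apply (TensorProduct.equivFinsuppOfBasisLeft (M := A) (N := B) b).injective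
  rw [map_zero]
  ext i
  have e : ∀ y : A ⊗[k] B, TensorProduct.equivFinsuppOfBasisLeft (N := B) b y i = contr (b.coord i) y := by
    intro y
    induction y with
    | zero => simp
    | tmul a c => simp [contr_tmul, TensorProduct.equivFinsuppOfBasisLeft_apply_tmul_apply]
    | add p q hp hq => simp only [map_add, Finsupp.add_apply, hp, hq]
  rw [e, h]
  rfl

/-- An element of the tensor product vanishing at all pairs of points is zero. -/
theorem eq_zero_of_points [IsReduced A] [IsReduced B] [Algebra.FiniteType k A] [Algebra.FiniteType k B]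
    {x : A ⊗[k] B} (h : ∀ (ψ : A →ₐ[k] k) (χ : B →ₐ[k] k),
      Algebra.TensorProduct.lift ψ χ (fun _ _ => .all _ _) x = 0) : x = 0 := by
  classical
  let b := Module.Free.chooseBasis k B
  apply (TensorProduct.equivFinsuppOfBasisRight (M := A) (N := B) b).injective
  rw [map_zero]
  by_contra hne
  obtain ⟨i, hi⟩ : ∃ i, TensorProduct.equivFinsuppOfBasisRight (M := A) b x i ≠ 0 := by
    by_contra hall
    push Not at hall
    exact hne (Finsupp.ext hall)
  obtain ⟨ψ, hψ⟩ := exists_point_ne_zero (k := k) hi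
  have hB : contr ψ.toLinearMap x = 0 := by
    by_contra hB
    obtain ⟨χ, hχ⟩ := exists_point_ne_zero (k := k) hB
    refine hχ ?_
    have key : ∀ y : A ⊗[k] B, χ (contr ψ.toLinearMap y) =
        Algebra.TensorProduct.lift ψ χ (fun _ _ => .all _ _) y := by
      intro y
      induction y with
      | zero => simp
      | tmul a c => simp [contr_tmul]
      | add p q hp hq => simp only [map_add, hp, hq]
    rw [key, h]
  refine hψ ?_
  have e : ∀ y : A ⊗[k] B, ψ (TensorProduct.equivFinsuppOfBasisRight (M := A) b y i) =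
      b.repr (contr ψ.toLinearMap y) i := by
    intro y
    induction y with
    | zero => simp
    | tmul a c => simp [contr_tmul, TensorProduct.equivFinsuppOfBasisRight_apply_tmul_apply, mul_comm]
    | add p q hp hq => simp only [map_add, Finsupp.add_apply, hp, hq]
  rw [e, hB]
  simp

/-- **Rosenlicht's lemma**, affine case. -/
theorem exists_eq_tmul [IsDomain A] [IsDomain B] [Algebra.FiniteType k A] [Algebra.FiniteType k B]
    {f : A ⊗[k] B} (hf : IsUnit f) : ∃ (u : A) (h : B), IsUnit u ∧ IsUnit h ∧ f = u ⊗ₜ[k] h := by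
  classical
  obtain ⟨S, hS⟩ := TensorProduct.exists_finset (R := k) f
  let V : Submodule k A := Submodule.span k ((fun p : A × B => p.1) '' (S : Set (A × B)))
  haveI : FiniteDimensional k V := FiniteDimensional.span_of_finite k (S.finite_toSet.image _)
  obtain ⟨ι, _, φ, hker, hfin⟩ := exists_hom_finite (k := k) A
  haveI := (hfin V inferInstance).to_subtype
  haveI : Fintype (φ '' {u : Aˣ | (u : A) ∈ V}) := Fintype.ofFinite _
  choose r hrV hr using fun s : (φ '' {u : Aˣ | (u : A) ∈ V}) => s.2
  have hunitV : ∀ χ : B →ₐ[k] k, ∃ (s : (φ '' {u : Aˣ | (u : A) ∈ V})) (c : k), ∀ l : A →ₗ[k] k,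
      χ (contr l f) = c * l (r s : A) := by
    intro χ
    let Φ : A ⊗[k] B →ₐ[k] A := Algebra.TensorProduct.lift (AlgHom.id k A) ((Algebra.ofId k A).comp χ)
      (fun _ _ => .all _ _)
    have hu : IsUnit (Φ f) := hf.map Φ
    have hmem : Φ f ∈ V := by
      rw [hS, map_sum]
      refine sum_mem fun p hp => ?_
      simp only [Φ, Algebra.TensorProduct.lift_tmul, AlgHom.id_apply, AlgHom.comp_apply, Algebra.ofId_apply]
      rw [mul_comm, ← Algebra.smul_def]
      exact V.smul_mem _ (Submodule.subset_span ⟨p, hp, rfl⟩)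
    refine ⟨⟨φ hu.unit, hu.unit, hmem, rfl⟩, ?_⟩
    set s : (φ '' {u : Aˣ | (u : A) ∈ V}) := ⟨φ hu.unit, hu.unit, hmem, rfl⟩
    obtain ⟨c, hc⟩ := exists_const (hker (hu.unit * (r s)⁻¹) (by rw [map_mul, map_inv, hr s, mul_inv_cancel]))
    refine ⟨c, fun l => ?_⟩
    have hΦ : Φ f = c • (r s : A) := by
      rw [Algebra.smul_def, hc, Units.val_mul, mul_assoc, Units.inv_mul, mul_one]
      rfl
    rw [show c * l (r s : A) = l (Φ f) by rw [hΦ, map_smul, smul_eq_mul], hS]
    simp only [map_sum, contr_tmul, Φ, Algebra.TensorProduct.lift_tmul, AlgHom.id_apply, AlgHom.comp_apply,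
      Algebra.ofId_apply, map_smul, smul_eq_mul]
    refine Finset.sum_congr rfl fun x _ => ?_
    rw [mul_comm x.1, ← Algebra.smul_def, map_smul, smul_eq_mul, mul_comm]
  -- some representative works
  obtain ⟨s, hs⟩ : ∃ s : (φ '' {u : Aˣ | (u : A) ∈ V}), ∀ l : A →ₗ[k] k, l (r s : A) = 0 → contr l f = 0 := by
    by_contra hne
    push Not at hne
    choose l hl hlne using hne
    obtain ⟨χ, hχ⟩ := exists_point_ne_zero (k := k) (B := B) (b := ∏ s, contr (l s) f)
      (Finset.prod_ne_zero_iff.2 fun s _ => hlne s)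
    obtain ⟨s, c, hs⟩ := hunitV χ
    refine hχ ?_
    rw [map_prod]
    exact Finset.prod_eq_zero (Finset.mem_univ s) (by rw [hs, hl, mul_zero])
  obtain ⟨l₀, hl₀⟩ : ∃ l₀ : A →ₗ[k] k, l₀ (r s : A) = 1 := by
    obtain ⟨l, hl⟩ : ∃ l : A →ₗ[k] k, l (r s : A) ≠ 0 := by
      by_contra h
      push Not at h
      exact (r s).ne_zero ((Module.forall_dual_apply_eq_zero_iff k _).1 h)
    exact ⟨(l (r s : A))⁻¹ • l, by simp [hl]⟩
  have hfeq : f = (r s : A) ⊗ₜ[k] contr l₀ f := by
    refine sub_eq_zero.1 (eq_zero_of_contr fun l => ?_)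
    have h1 := hs (l - l (r s : A) • l₀) (by simp [hl₀])
    rw [show contr (l - l (r s : A) • l₀) f = contr l f - l (r s : A) • contr l₀ f by
      simp [contr, LinearMap.rTensor_sub, LinearMap.rTensor_smul]] at h1
    rw [map_sub, contr_tmul, h1]
  refine ⟨r s, contr l₀ f, Units.isUnit _, ?_, hfeq⟩
  obtain ⟨χA, -⟩ := exists_point_ne_zero (k := k) (one_ne_zero (α := A))
  have hu := hf.map (Algebra.TensorProduct.lift ((Algebra.ofId k B).comp χA) (AlgHom.id k B) (fun _ _ => .all _ _))
  rw [hfeq, Algebra.TensorProduct.lift_tmul] at hu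
  exact isUnit_of_mul_isUnit_right hu

end Groth.Agent.UnitsRos
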