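import Groth.Agent.Lib.UnitsRos.Affine
import Groth.Agent.Lib.UnitsFG.Global
import Groth.Agent.Lib.DiagGL.Main
import Mathlib.AlgebraicGeometry.AlgClosed.Basic
import Mathlib.AlgebraicGeometry.PullbackCarrier
import Mathlib.Algebra.Polynomial.AlgebraMap

/-! # Units on a product of two varieties over an algebraically closed field. -/

set_option autoImplicit false
set_option linter.style.haveILetI false
set_option backward.isDefEq.respectTransparency.types false
universe u

open CategoryTheory Limits MonoidalCategory CartesianMonoidalCategory MonObj AlgebraicGeometry Opposite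
open scoped TensorProduct

noncomputable section

namespace Groth.Agent.UnitsRos

open Groth.Agent.DiagGL

variable {k : Type u} [Field k]

/-- An affine chart through a point. -/
theorem exists_chart (X : Over (Spec (CommRingCat.of k))) [IsIntegral X.left] [LocallyOfFiniteType X.hom]
    (x : X.left) :
    ∃ (A : Type u) (_ : CommRing A) (_ : Algebra k A) (_ : IsDomain A) (_ : Algebra.FiniteType k A)
      (j : CoactBr.sp k A ⟶ X), IsOpenImmersion j.left ∧ x ∈ Set.range j.left.base := by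
  obtain ⟨U, hU, hxU, -⟩ := exists_isAffineOpen_mem_and_subset (show x ∈ (⊤ : X.left.Opens) from trivial)
  letI := ((UnitsFG.res X.left U).comp (UnitsFG.globalMap X.hom)).toAlgebra
  haveI : Algebra.FiniteType k Γ(X.left, U) := UnitsFG.finiteType_res X.hom hU
  haveI : Nonempty U := ⟨⟨x, hxU⟩⟩
  refine ⟨Γ(X.left, U), inferInstance, inferInstance, inferInstance, inferInstance,
    Over.homMk hU.fromSpec ?_, ?_, ?_⟩
  · show hU.fromSpec ≫ X.hom = Spec.map (CommRingCat.ofHom ((UnitsFG.res X.left U).comp (UnitsFG.globalMap X.hom)))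
    rw [← IsAffineOpen.SpecMap_appLE_fromSpec X.hom (isAffineOpen_top _) hU (show U ≤ X.hom ⁻¹ᵁ ⊤ by simp),
      IsAffineOpen.fromSpec_top, Scheme.isoSpec_Spec_inv, ← Spec.map_comp]
    rfl
  · exact inferInstanceAs (IsOpenImmersion hU.fromSpec)
  · show x ∈ Set.range hU.fromSpec.base
    rw [hU.range_fromSpec]
    exact hxU

variable {X Y T : Over (Spec (CommRingCat.of k))}

/-- The value of a global function at a rational point. -/
abbrev val (q : 𝟙_ (Over (Spec (CommRingCat.of k))) ⟶ X) (s : Γ(X.left, ⊤)) :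
    Γ((𝟙_ (Over (Spec (CommRingCat.of k)))).left, ⊤) :=
  q.left.appTop s

theorem appTop_comp (t : T ⟶ X) (g : X ⟶ Y) (s : Γ(Y.left, ⊤)) :
    (t ≫ g).left.appTop s = t.left.appTop (g.left.appTop s) := by
  rw [Over.comp_left, Scheme.Hom.comp_appTop]
  rfl

theorem exists_lift {j : T ⟶ X} [IsOpenImmersion j.left] (q : 𝟙_ (Over (Spec (CommRingCat.of k))) ⟶ X)
    (h : q.left.base (IsLocalRing.closedPoint k) ∈ Set.range j.left.base) :
    ∃ q' : 𝟙_ (Over (Spec (CommRingCat.of k))) ⟶ T, q' ≫ j = q := by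
  have hr : Set.range q.left.base ⊆ Set.range j.left.base := by
    rintro _ ⟨z, rfl⟩
    obtain rfl : z = IsLocalRing.closedPoint k := Subsingleton.elim (α := Spec (CommRingCat.of k)) _ _
    exact h
  let l := IsOpenImmersion.lift j.left q.left hr
  have hl : l ≫ j.left = q.left := IsOpenImmersion.lift_fac _ _ hr
  refine ⟨Over.homMk l ?_, Over.OverMorphism.ext hl⟩
  rw [← Over.w j, ← Category.assoc, hl]
  exact Over.w q

theorem exists_point [IsAlgClosed k] [LocallyOfFiniteType X.hom] {O : Set X.left} (hO : IsOpen O)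
    (hne : O.Nonempty) :
    ∃ q : 𝟙_ (Over (Spec (CommRingCat.of k))) ⟶ X, q.left.base (IsLocalRing.closedPoint k) ∈ O := by
  haveI : JacobsonSpace X.left := LocallyOfFiniteType.jacobsonSpace X.hom
  obtain ⟨p, hp, hpc⟩ := nonempty_inter_closedPoints hne hO.isLocallyClosed
  exact ⟨Over.homMk (pointOfClosedPoint X.hom p hpc) (pointOfClosedPoint_comp _ _ _),
    (pointOfClosedPoint_apply X.hom p hpc (IsLocalRing.closedPoint k)).symm ▸ hp⟩

variable {A B : Type u} [CommRing A] [CommRing B] [Algebra k A] [Algebra k B]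

/-- The chart on a product. -/
def prodChart (jX : CoactBr.sp k A ⟶ X) (jY : CoactBr.sp k B ⟶ Y) : CoactBr.sp k (A ⊗[k] B) ⟶ X ⊗ Y :=
  lift (CoactBr.pt Algebra.TensorProduct.includeLeft) (CoactBr.pt Algebra.TensorProduct.includeRight) ≫ (jX ⊗ₘ jY)

theorem mem_range_prodChart (jX : CoactBr.sp k A ⟶ X) (jY : CoactBr.sp k B ⟶ Y) [IsOpenImmersion jX.left]
    [IsOpenImmersion jY.left] :
    IsOpenImmersion (prodChart jX jY).left ∧ ∀ p : (X ⊗ Y).left, (fst X Y).left.base p ∈ Set.range jX.left.base →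
      (snd X Y).left.base p ∈ Set.range jY.left.base → p ∈ Set.range (prodChart jX jY).left.base := by
  let e := lift (CoactBr.pt (Algebra.TensorProduct.includeLeft : A →ₐ[k] A ⊗[k] B))
    (CoactBr.pt (Algebra.TensorProduct.includeRight : B →ₐ[k] A ⊗[k] B))
  letI : (algSpec (CommRingCat.of k)).Braided := braidedAlgSpec
  haveI : IsIso e := by
    have h := CoactBr.lift_pt_pt (R := k) (Algebra.TensorProduct.includeLeft : A →ₐ[k] A ⊗[k] B)
      (Algebra.TensorProduct.includeRight : B →ₐ[k] A ⊗[k] B)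
    have hid : Algebra.TensorProduct.lift (Algebra.TensorProduct.includeLeft : A →ₐ[k] A ⊗[k] B)
        (Algebra.TensorProduct.includeRight : B →ₐ[k] A ⊗[k] B) (fun _ _ => .all _ _) = AlgHom.id k _ :=
      Algebra.TensorProduct.ext' fun a b => by simp
    rw [hid, CoactBr.pt_id] at h
    let I := Functor.Monoidal.μIso (algSpec (CommRingCat.of k)) (op (CommAlgCat.of k A)) (op (CommAlgCat.of k B))
    have h' : e ≫ I.hom = 𝟙 _ := h
    rw [(Iso.comp_hom_eq_id I).1 h']
    exact I.isIso_inv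
  haveI : IsIso e.left := inferInstanceAs (IsIso ((Over.forget _).map e))
  haveI : IsOpenImmersion (jX ⊗ₘ jY).left := by
    rw [Over.tensorHom_left]
    infer_instance
  refine ⟨by rw [prodChart, Over.comp_left]; infer_instance, fun p h1 h2 => ?_⟩
  have hp : p ∈ Set.range (jX ⊗ₘ jY).left.base := by
    rw [Over.tensorHom_left, Scheme.Pullback.range_map]
    exact ⟨h1, h2⟩
  obtain ⟨q, rfl⟩ := hp
  obtain ⟨z, rfl⟩ := e.left.homeomorph.surjective q
  exact ⟨z, by rw [prodChart, Over.comp_left, Scheme.Hom.comp_apply]; rfl⟩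

theorem exists_pair {jX : CoactBr.sp k A ⟶ X} {jY : CoactBr.sp k B ⟶ Y}
    (a : 𝟙_ (Over (Spec (CommRingCat.of k))) ⟶ CoactBr.sp k A)
    (b : 𝟙_ (Over (Spec (CommRingCat.of k))) ⟶ CoactBr.sp k B) (s : Γ((X ⊗ Y).left, ⊤))
    (s' : A ⊗[k] B)
    (hs : (prodChart jX jY).left.appTop s = (Scheme.ΓSpecIso (CommRingCat.of (A ⊗[k] B))).inv s') :
    val (lift (a ≫ jX) (b ≫ jY)) s =
      letI := (alg (𝟙_ (Over (Spec (CommRingCat.of k))))).toAlgebra
      Algebra.TensorProduct.lift (R := k) (S := k) ⟨ev a, ev_algebraMap a⟩ ⟨ev b, ev_algebraMap b⟩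
        (fun _ _ => .all _ _) s' := by
  letI := (alg (𝟙_ (Over (Spec (CommRingCat.of k))))).toAlgebra
  let Φ : A ⊗[k] B →ₐ[k] Γ((𝟙_ (Over (Spec (CommRingCat.of k)))).left, ⊤) :=
    Algebra.TensorProduct.lift (R := k) (S := k) ⟨ev a, ev_algebraMap a⟩ ⟨ev b, ev_algebraMap b⟩
      (fun _ _ => .all _ _)
  let q : 𝟙_ (Over (Spec (CommRingCat.of k))) ⟶ CoactBr.sp k (A ⊗[k] B) := mk Φ.toRingHom fun r => Φ.commutes r
  have hev : ev q = Φ.toRingHom := ev_mk _ _
  have hq : q ≫ prodChart jX jY = lift (a ≫ jX) (b ≫ jY) := by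
    rw [prodChart, ← Category.assoc, comp_lift, lift_map]
    congr 2
    · refine ev_injective fun x => ?_
      rw [ev_comp, ev_pt]
      show ev q (x ⊗ₜ[k] 1) = _
      rw [hev]
      simp [Φ]
    · refine ev_injective fun x => ?_
      rw [ev_comp, ev_pt]
      show ev q (1 ⊗ₜ[k] x) = _
      rw [hev]
      simp [Φ]
  rw [val, ← hq, appTop_comp, hs]
  exact DFunLike.congr_fun hev s'

theorem exists_pullback (jX : CoactBr.sp k A ⟶ X) (jY : CoactBr.sp k B ⟶ Y) (s : Γ((X ⊗ Y).left, ⊤)) :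
    ∃ s' : A ⊗[k] B, (prodChart jX jY).left.appTop s = (Scheme.ΓSpecIso (CommRingCat.of (A ⊗[k] B))).inv s' := by
  obtain ⟨s', hs'⟩ := (Scheme.ΓSpecIso (CommRingCat.of (A ⊗[k] B))).commRingCatIsoToRingEquiv.symm.surjective
    ((prodChart jX jY).left.appTop s)
  exact ⟨s', hs'.symm⟩

/-- A global function as a map to the affine line. -/
def fn (s : Γ(X.left, ⊤)) : X ⟶ CoactBr.sp k (Polynomial k) :=
  letI := (alg X).toAlgebra
  mk (Polynomial.aeval (R := k) s).toRingHom fun r => (Polynomial.aeval (R := k) s).commutes r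

theorem ev_fn (s : Γ(X.left, ⊤)) : ev (fn s) Polynomial.X = s := by
  letI := (alg X).toAlgebra
  rw [fn, ev_mk]
  exact Polynomial.aeval_X s

theorem comp_fn_eq (j : T ⟶ X) {s t : Γ(X.left, ⊤)} (h : j.left.appTop s = j.left.appTop t) :
    j ≫ fn s = j ≫ fn t := by
  refine ev_injective fun a => RingHom.congr_fun (Polynomial.ringHom_ext (fun r => ?_) ?_) a
  · rw [← Polynomial.algebraMap_eq, ev_algebraMap, ev_algebraMap]
  · rw [ev_comp, ev_comp, ev_fn, ev_fn, h]

variable [IsAlgClosed k]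

theorem isUnit_val {f : Γ(X.left, ⊤)} (hf : IsUnit f) (q : 𝟙_ (Over (Spec (CommRingCat.of k))) ⟶ X) :
    IsUnit (val q f) := hf.map q.left.appTop.hom

theorem chart_eq_of_val_eq [IsDomain A] [IsDomain B] [Algebra.FiniteType k A] [Algebra.FiniteType k B]
    (jX : CoactBr.sp k A ⟶ X) (jY : CoactBr.sp k B ⟶ Y) {s t : Γ((X ⊗ Y).left, ⊤)}
    (h : ∀ (x : 𝟙_ (Over (Spec (CommRingCat.of k))) ⟶ X) (y : 𝟙_ (Over (Spec (CommRingCat.of k))) ⟶ Y),
      val (lift x y) s = val (lift x y) t) :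
    (prodChart jX jY).left.appTop s = (prodChart jX jY).left.appTop t := by
  obtain ⟨s', hs'⟩ := exists_pullback jX jY s
  obtain ⟨t', ht'⟩ := exists_pullback jX jY t
  rw [hs', ht', sub_eq_zero.1 (eq_zero_of_points (x := s' - t') fun ψ χ => ?_)]
  rw [map_sub, sub_eq_zero]
  let pψ := mk (T := 𝟙_ (Over (Spec (CommRingCat.of k)))) ((alg _).comp ψ.toRingHom) fun r => by simp
  let pχ := mk (T := 𝟙_ (Over (Spec (CommRingCat.of k)))) ((alg _).comp χ.toRingHom) fun r => by simp
  have h1 := exists_pair (jX := jX) (jY := jY) pψ pχ s s' hs'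
  have h2 := exists_pair (jX := jX) (jY := jY) pψ pχ t t' ht'
  rw [h] at h1
  apply alg_unit_bijective.1
  letI := (alg (𝟙_ (Over (Spec (CommRingCat.of k))))).toAlgebra
  have key : ∀ z, alg (𝟙_ (Over (Spec (CommRingCat.of k)))) (Algebra.TensorProduct.lift ψ χ (fun _ _ => .all _ _) z) =
      Algebra.TensorProduct.lift (R := k) (S := k) (⟨ev pψ, ev_algebraMap pψ⟩ : _ →ₐ[k] _)
        ⟨ev pχ, ev_algebraMap pχ⟩ (fun _ _ => .all _ _) z := by
    intro z
    induction z with
    | zero => simp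
    | tmul a c => simp [pψ, pχ, ev_mk]
    | add p q hp hq => simp only [map_add, hp, hq]
  rw [key, key, ← h1, h2]

set_option maxHeartbeats 1000000 in
/-- Functions on a product of varieties vanishing at all rational points vanish. -/
theorem eq_of_val_eq [IsIntegral X.left] [IsIntegral Y.left] [LocallyOfFiniteType X.hom] [LocallyOfFiniteType Y.hom]
    {s t : Γ((X ⊗ Y).left, ⊤)}
    (h : ∀ (x : 𝟙_ (Over (Spec (CommRingCat.of k))) ⟶ X) (y : 𝟙_ (Over (Spec (CommRingCat.of k))) ⟶ Y),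
      val (lift x y) s = val (lift x y) t) : s = t := by
  suffices heq : fn s = fn t by rw [← ev_fn s, ← ev_fn t, heq]
  choose AX iAX jAX hAXd hAXf jX hjX hxX using exists_chart X
  choose AY iAY jAY hAYd hAYf jY hjY hxY using exists_chart Y
  letI := iAX; letI := jAX; letI := iAY; letI := jAY
  haveI := hjX; haveI := hjY
  let 𝒰 : (X ⊗ Y).left.OpenCover := Scheme.Cover.mkOfCovers (X ⊗ Y).left
    (fun p : (X ⊗ Y).left => (CoactBr.sp k (AX ((fst X Y).left.base p) ⊗[k] AY ((snd X Y).left.base p))).left)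
    (fun p => (prodChart (jX _) (jY _)).left)
    (fun p => by
      obtain ⟨z, hz⟩ := (mem_range_prodChart (jX ((fst X Y).left.base p)) (jY ((snd X Y).left.base p))).2 p
        (hxX _) (hxY _)
      exact ⟨p, z, hz⟩)
    (fun p => (mem_range_prodChart _ _).1)
  refine Over.OverMorphism.ext (Scheme.Cover.hom_ext 𝒰 _ _ fun p => ?_)
  show (prodChart (jX _) (jY _) ≫ fn s).left = (prodChart (jX _) (jY _) ≫ fn t).left
  refine congrArg _ (comp_fn_eq _ ?_)
  haveI := hAXd ((fst X Y).left.base p); haveI := hAYd ((snd X Y).left.base p)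
  haveI := hAXf ((fst X Y).left.base p); haveI := hAYf ((snd X Y).left.base p)
  exact chart_eq_of_val_eq (jX _) (jY _) h

/-- On two charts the values of a unit have rank one. -/
theorem exchange_chart [IsDomain A] [IsDomain B] [Algebra.FiniteType k A] [Algebra.FiniteType k B]
    (jX : CoactBr.sp k A ⟶ X) (jY : CoactBr.sp k B ⟶ Y)
    {f : Γ((X ⊗ Y).left, ⊤)} (hf : IsUnit f)
    (a a' : 𝟙_ (Over (Spec (CommRingCat.of k))) ⟶ CoactBr.sp k A)
    (b b' : 𝟙_ (Over (Spec (CommRingCat.of k))) ⟶ CoactBr.sp k B) :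
    val (lift (a ≫ jX) (b ≫ jY)) f * val (lift (a' ≫ jX) (b' ≫ jY)) f =
      val (lift (a ≫ jX) (b' ≫ jY)) f * val (lift (a' ≫ jX) (b ≫ jY)) f := by
  obtain ⟨f', hf'⟩ := exists_pullback jX jY f
  have hu : IsUnit f' := by
    have := hf.map (prodChart jX jY).left.appTop.hom
    rw [hf'] at this
    exact (isUnit_map_iff (Scheme.ΓSpecIso (CommRingCat.of (A ⊗[k] B))).commRingCatIsoToRingEquiv.symm _).1 this
  obtain ⟨u, h, -, -, rfl⟩ := exists_eq_tmul hu
  simp only [exists_pair _ _ f _ hf', Algebra.TensorProduct.lift_tmul]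
  ring

theorem exchange [IsIntegral X.left] [IsIntegral Y.left] [LocallyOfFiniteType X.hom] [LocallyOfFiniteType Y.hom]
    {f : Γ((X ⊗ Y).left, ⊤)} (hf : IsUnit f)
    (x x' : 𝟙_ (Over (Spec (CommRingCat.of k))) ⟶ X) (y y' : 𝟙_ (Over (Spec (CommRingCat.of k))) ⟶ Y) :
    val (lift x y) f * val (lift x' y') f = val (lift x y') f * val (lift x' y) f := by
  -- step in the first factor, for `y, y'` in one chart
  have step : ∀ (B : Type u) [CommRing B] [Algebra k B] [IsDomain B] [Algebra.FiniteType k B]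
      (jY : CoactBr.sp k B ⟶ Y) (b b' : 𝟙_ (Over (Spec (CommRingCat.of k))) ⟶ CoactBr.sp k B)
      (x x' : 𝟙_ (Over (Spec (CommRingCat.of k))) ⟶ X),
      val (lift x (b ≫ jY)) f * val (lift x' (b' ≫ jY)) f =
        val (lift x (b' ≫ jY)) f * val (lift x' (b ≫ jY)) f := by
    intro B _ _ _ _ jY b b' x x'
    obtain ⟨A, _, _, _, _, j, hj, hxj⟩ := exists_chart X (x.left.base (IsLocalRing.closedPoint k))
    obtain ⟨A', _, _, _, _, j', hj', hxj'⟩ := exists_chart X (x'.left.base (IsLocalRing.closedPoint k))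
    obtain ⟨a, rfl⟩ := exists_lift x hxj
    obtain ⟨a', rfl⟩ := exists_lift x' hxj'
    obtain ⟨z, hz⟩ := exists_point (X := X) (j.left.isOpenEmbedding.isOpen_range.inter j'.left.isOpenEmbedding.isOpen_range)
      (nonempty_preirreducible_inter j.left.isOpenEmbedding.isOpen_range j'.left.isOpenEmbedding.isOpen_range
        ⟨_, hxj⟩ ⟨_, hxj'⟩)
    obtain ⟨c, hc⟩ := exists_lift z hz.1
    obtain ⟨c', hc'⟩ := exists_lift z hz.2
    have h1 := exchange_chart j jY hf a c b b'
    have h2 := exchange_chart j' jY hf c' a' b b'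
    rw [hc] at h1
    rw [hc'] at h2
    have hu := (isUnit_val hf (lift z (b ≫ jY))).mul (isUnit_val hf (lift z (b' ≫ jY)))
    refine hu.mul_left_cancel ?_
    linear_combination (exp := 1) (val (lift (a' ≫ j') (b' ≫ jY)) f * val (lift z (b ≫ jY)) f) * h1 +
      (val (lift (a ≫ j) (b' ≫ jY)) f * val (lift z (b ≫ jY)) f) * h2
  obtain ⟨B, _, _, _, _, j, hj, hyj⟩ := exists_chart Y (y.left.base (IsLocalRing.closedPoint k))
  obtain ⟨B', _, _, _, _, j', hj', hyj'⟩ := exists_chart Y (y'.left.base (IsLocalRing.closedPoint k))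
  obtain ⟨b, rfl⟩ := exists_lift y hyj
  obtain ⟨b', rfl⟩ := exists_lift y' hyj'
  obtain ⟨z, hz⟩ := exists_point (X := Y) (j.left.isOpenEmbedding.isOpen_range.inter j'.left.isOpenEmbedding.isOpen_range)
    (nonempty_preirreducible_inter j.left.isOpenEmbedding.isOpen_range j'.left.isOpenEmbedding.isOpen_range
      ⟨_, hyj⟩ ⟨_, hyj'⟩)
  obtain ⟨c, hc⟩ := exists_lift z hz.1
  obtain ⟨c', hc'⟩ := exists_lift z hz.2
  have h1 := step B j b c x x'
  have h2 := step B' j' c' b' x x'
  rw [hc] at h1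
  rw [hc'] at h2
  have hu := (isUnit_val hf (lift x z)).mul (isUnit_val hf (lift x' z))
  refine hu.mul_left_cancel ?_
  linear_combination (exp := 1) (val (lift x' (b' ≫ j')) f * val (lift x z) f) * h1 +
    (val (lift x' (b ≫ j)) f * val (lift x z) f) * h2

/-- **Units on a product.** -/
theorem exists_units_mul [IsIntegral X.left] [IsIntegral Y.left] [LocallyOfFiniteType X.hom] [LocallyOfFiniteType Y.hom]
    {f : Γ((X ⊗ Y).left, ⊤)} (hf : IsUnit f) :
    ∃ (g : Γ(X.left, ⊤)) (h : Γ(Y.left, ⊤)), IsUnit g ∧ IsUnit h ∧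
      f = (fst X Y).left.appTop g * (snd X Y).left.appTop h := by
  obtain ⟨x₀, -⟩ := exists_point (X := X) isOpen_univ Set.univ_nonempty
  obtain ⟨y₀, -⟩ := exists_point (X := Y) isOpen_univ Set.univ_nonempty
  let g := (lift (𝟙 X) (toUnit X ≫ y₀)).left.appTop f
  obtain ⟨c, hc⟩ := (isUnit_val hf (lift x₀ y₀)).exists_right_inv
  let h := (lift (toUnit Y ≫ x₀) (𝟙 Y)).left.appTop f * (toUnit Y).left.appTop c
  refine ⟨g, h, hf.map _, (hf.map _).mul ((IsUnit.of_mul_eq_one _ ((mul_comm _ _).trans hc)).map _),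
    eq_of_val_eq fun x y => ?_⟩
  have hg : val (lift x y) ((fst X Y).left.appTop g) = val (lift x y₀) f := by
    simp only [val, g, ← appTop_comp]
    congr 3
    simp [comp_lift]
  have hh : val (lift x y) ((snd X Y).left.appTop h) = val (lift x₀ y) f * c := by
    simp only [val, h, map_mul, ← appTop_comp]
    congr 1
    · congr 3
      simp [comp_lift]
    · rw [toUnit_unique (lift x y ≫ snd X Y ≫ toUnit Y) (𝟙 _)]
      rfl
  rw [show val (lift x y) ((fst X Y).left.appTop g * (snd X Y).left.appTop h) =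
    val (lift x y) ((fst X Y).left.appTop g) * val (lift x y) ((snd X Y).left.appTop h) from map_mul _ _ _, hg, hh]
  have := exchange hf x x₀ y y₀
  linear_combination c * this - val (lift x y) f * hc

end Groth.Agent.UnitsRos
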