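import Groth.Agent.Lib.UnitsRos.Scheme
import Groth.Agent.Lib.AbRigid.Connected
import Groth.Agent.Lib.AbRigid.SmoothGI
import Mathlib.AlgebraicGeometry.Geometrically.Integral
import Mathlib.CategoryTheory.Monoidal.Cartesian.Mon

/-! # Units on connected groups are characters up to constants. -/

set_option autoImplicit false
set_option linter.style.haveILetI false
set_option backward.isDefEq.respectTransparency.types false
universe u

open CategoryTheory Limits MonoidalCategory CartesianMonoidalCategory MonObj AlgebraicGeometry Opposite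

noncomputable section

namespace Groth.Agent.UnitsRos

variable {k : Type u} [Field k] [IsAlgClosed k]

omit [IsAlgClosed k] in
theorem isIntegral_of_group (G : Over (Spec (CommRingCat.of k))) [GrpObj G] [Smooth G.hom] [ConnectedSpace G.left] :
    IsIntegral G.left := by
  haveI : GeometricallyIrreducible G.hom := AbRigid.geometricallyIrreducible_of_connected G
  haveI : IsReduced G.left := AbRigid.isReduced_of_smooth_over_field G.hom
  haveI : IrreducibleSpace G.left := GeometricallyIrreducible.irreducibleSpace_of_subsingleton G.hom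
  exact isIntegral_of_irreducibleSpace_of_isReduced _

variable {X Y T : Over (Spec (CommRingCat.of k))}

omit [IsAlgClosed k] in
theorem appTop_id (s : Γ(X.left, ⊤)) : (𝟙 X : X ⟶ X).left.appTop s = s := by
  rw [Over.id_left, Scheme.Hom.id_appTop]
  rfl

/-- A unit on a connected group with value one at the origin is multiplicative. -/
theorem isChar (G : Over (Spec (CommRingCat.of k))) [GrpObj G] [Smooth G.hom] [ConnectedSpace G.left]
    {f : Γ(G.left, ⊤)} (hf : IsUnit f) (he : η[G].left.appTop f = 1) :
    μ[G].left.appTop f = (fst G G).left.appTop f * (snd G G).left.appTop f := by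
  haveI := isIntegral_of_group G
  obtain ⟨g, h, -, -, hgh⟩ := exists_units_mul (X := G) (Y := G) (hf.map μ[G].left.appTop.hom)
  have E : ∀ {T : Over (Spec (CommRingCat.of k))} (a b : T ⟶ G), (lift a b ≫ μ).left.appTop f =
      a.left.appTop g * b.left.appTop h := by
    intro T a b
    rw [appTop_comp, hgh, map_mul, ← appTop_comp, ← appTop_comp, lift_fst, lift_snd]
  have h1 := E (𝟙 G) (toUnit G ≫ η)
  rw [lift_comp_one_right, appTop_id, appTop_id, appTop_comp] at h1
  have h2 := E (toUnit G ≫ η) (𝟙 G)
  rw [lift_comp_one_left, appTop_id, appTop_id, appTop_comp] at h2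
  have h3 := E (η : 𝟙_ _ ⟶ G) η
  have h4 : lift (η : 𝟙_ _ ⟶ G) η ≫ μ = η := by
    have := lift_comp_one_right (η : 𝟙_ _ ⟶ G) (𝟙 _)
    rwa [Category.id_comp] at this
  rw [h4, he] at h3
  have hU : ∀ (a : G ⊗ G ⟶ G) (z : Γ((𝟙_ (Over (Spec (CommRingCat.of k)))).left, ⊤)),
      a.left.appTop ((toUnit G).left.appTop z) = (toUnit (G ⊗ G)).left.appTop z := by
    intro a z
    rw [← appTop_comp, toUnit_unique (a ≫ toUnit G) (toUnit _)]
  conv_rhs => arg 1; rw [h1]
  conv_rhs => arg 2; rw [h2]
  rw [hgh, map_mul, map_mul, hU, hU]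
  have h5 := congrArg (toUnit (G ⊗ G)).left.appTop h3
  rw [map_one, map_mul] at h5
  linear_combination ((fst G G).left.appTop g * (snd G G).left.appTop h) * h5

/-- Units on the product of a connected group and a variety. -/
theorem exists_char_mul (G X : Over (Spec (CommRingCat.of k))) [GrpObj G] [Smooth G.hom] [ConnectedSpace G.left]
    [IsIntegral X.left] [LocallyOfFiniteType X.hom] {f : Γ((G ⊗ X).left, ⊤)} (hf : IsUnit f) :
    ∃ (χ : Γ(G.left, ⊤)) (u : Γ(X.left, ⊤)), IsUnit χ ∧ η[G].left.appTop χ = 1 ∧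
      μ[G].left.appTop χ = (fst G G).left.appTop χ * (snd G G).left.appTop χ ∧ IsUnit u ∧
      f = (fst G X).left.appTop χ * (snd G X).left.appTop u := by
  haveI := isIntegral_of_group G
  obtain ⟨g, u, hg, hu, rfl⟩ := exists_units_mul hf
  obtain ⟨c, hc⟩ := hg.map η[G].left.appTop.hom
  have hc' : η[G].left.appTop g = c := hc.symm
  let χ := g * (toUnit G).left.appTop ↑c⁻¹
  have hχ : IsUnit χ := hg.mul (c⁻¹.isUnit.map _)
  have heχ : η[G].left.appTop χ = 1 := by
    rw [map_mul, ← appTop_comp, toUnit_unique (η[G] ≫ toUnit G) (𝟙 _), appTop_id, hc', Units.mul_inv]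
  refine ⟨χ, u * (toUnit X).left.appTop ↑c, hχ, heχ, isChar G hχ heχ, hu.mul (c.isUnit.map _), ?_⟩
  rw [map_mul, map_mul, ← appTop_comp, ← appTop_comp, toUnit_unique (fst G X ≫ toUnit G) (toUnit _),
    toUnit_unique (snd G X ≫ toUnit X) (toUnit _)]
  have h1 : (toUnit (G ⊗ X)).left.appTop (↑c⁻¹) * (toUnit (G ⊗ X)).left.appTop (↑c) = 1 := by
    rw [← map_mul, Units.inv_mul, map_one]
  linear_combination -((fst G X).left.appTop g * (snd G X).left.appTop u) * h1

end Groth.Agent.UnitsRos
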