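import Groth.Agent.Lib.UnitsFG.Domain

/-! # Units of finitely generated domains inside a finite dimensional subspace. -/

set_option autoImplicit false
set_option linter.style.haveILetI false
universe u

namespace Groth.Agent.UnitsRos

open FunFld Groth.Agent.UnitsFG

variable {k : Type u} [Field k]

/-- Elements with pairwise distinct values are independent. -/
theorem linearIndependent_of_val {E K : Type u} [Field E] [Field K] [Algebra E K] [Algebra k E] [Algebra k K]
    [IsScalarTower k E K] (P : Place E K) {ι : Type*} (v : ι → K) (hv : ∀ i, v i ≠ 0)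
    (hinj : Function.Injective fun i => P.ord (v i)) : LinearIndependent k v := by
  classical
  rw [linearIndependent_iff']
  intro s c hsum i hi
  by_contra hci
  set t := s.filter fun j => c j ≠ 0
  have hne : t.Nonempty := ⟨i, Finset.mem_filter.2 ⟨hi, hci⟩⟩
  have hst : ∑ j ∈ t, c j • v j = 0 := by
    rw [Finset.sum_filter_of_ne fun j _ hj => ?_]
    · exact hsum
    · intro h0
      exact hj (by rw [h0, zero_smul])
  obtain ⟨j₀, hj₀, hmin⟩ := t.exists_min_image (fun j => P.ord (v j)) hne
  have hval : ∀ j ∈ t, P.1 (c j • v j) = WithZero.exp (-P.ord (v j)) := by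
    intro j hj
    have hc : algebraMap k E (c j) ≠ 0 := fun h => (Finset.mem_filter.1 hj).2 ((map_eq_zero _).1 h)
    rw [← IsScalarTower.algebraMap_smul E (c j) (v j), Algebra.smul_def, map_mul, FunField.val_const P hc, one_mul,
      FunField.val_eq_exp_neg_ord P (hv j)]
  have hlt : ∀ j ∈ t, j ≠ j₀ → P.1 (c j • v j) < P.1 (c j₀ • v j₀) := by
    intro j hj hne
    rw [hval j hj, hval j₀ hj₀, WithZero.exp_lt_exp, neg_lt_neg_iff]
    exact lt_of_le_of_ne (hmin j hj) fun h => hne (hinj h.symm)
  have := Valuation.map_sum_eq_of_lt (v := P.1) (s := t) (f := fun j => c j • v j) hj₀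
    (fun j hj => hlt j (Finset.mem_sdiff.1 hj).1 fun h => (Finset.mem_sdiff.1 hj).2 (Finset.mem_singleton.2 h))
  rw [hst, map_zero, hval j₀ hj₀] at this
  exact WithZero.exp_ne_zero this.symm

/-- Finitely many valuations take finitely many values on a finite dimensional space. -/
theorem finite_image {A K : Type u} [CommRing A] [IsDomain A] [Field K] [Algebra k A] [Algebra A K] [Algebra k K]
    [IsScalarTower k A K] {J : Type*} [Finite J] {E : J → IntermediateField k K}
    (V : Submodule k A) (hV : FiniteDimensional k V) {ι : Type u} [Finite ι] {jj : ι → J}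
    (P : ∀ p : ι, Place (E (jj p)) K) (φ : Aˣ →* Multiplicative (ι → ℤ))
    (hφ : ∀ u p, Multiplicative.toAdd (φ u) p = (P p).ord (algebraMap A K (u : A)))
    (hinj : Function.Injective (algebraMap A K)) : (φ '' {u : Aˣ | (u : A) ∈ V}).Finite := by
  classical
  have hp : ∀ p : ι, {n : ℤ | ∃ u : Aˣ, (u : A) ∈ V ∧ (P p).ord (algebraMap A K (u : A)) = n}.Finite := by
    intro p
    choose r hr hrn using fun n : {n : ℤ | ∃ u : Aˣ, (u : A) ∈ V ∧ (P p).ord (algebraMap A K (u : A)) = n} => n.2
    have hli : LinearIndependent k fun n => (⟨_, hr n⟩ : V) := by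
      apply LinearIndependent.of_comp ((IsScalarTower.toAlgHom k A K).toLinearMap ∘ₗ V.subtype)
      refine linearIndependent_of_val (P p) _ (fun n => ?_) fun a b hab => ?_
      · show algebraMap A K (r n : A) ≠ 0
        exact fun h => (r n).ne_zero (hinj (h.trans (map_zero _).symm))
      · exact Subtype.ext ((hrn a).symm.trans (hab.trans (hrn b)))
    exact Set.finite_coe_iff.1 hli.finite
  have hsub : φ '' {u : Aˣ | (u : A) ∈ V} ⊆
      Multiplicative.ofAdd '' Set.pi Set.univ
        (fun p => {n : ℤ | ∃ u : Aˣ, (u : A) ∈ V ∧ (P p).ord (algebraMap A K (u : A)) = n}) := by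
    rintro _ ⟨u, hu, rfl⟩
    exact ⟨Multiplicative.toAdd (φ u), fun p _ => ⟨u, hu, (hφ u p).symm⟩, rfl⟩
  exact ((Set.Finite.pi hp).image _).subset hsub

/-- Units modulo constants, with finiteness on finite dimensional subspaces. -/
theorem exists_hom_finite (A : Type u) [CommRing A] [IsDomain A] [Algebra k A] [Algebra.FiniteType k A] :
    ∃ (ι : Type u) (_ : Fintype ι) (φ : Aˣ →* Multiplicative (ι → ℤ)),
      (∀ u, φ u = 1 → IsAlgebraic k (u : A)) ∧
      ∀ V : Submodule k A, FiniteDimensional k V → (φ '' {u : Aˣ | (u : A) ∈ V}).Finite := by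
  classical
  obtain ⟨s, g, hg, hgfin⟩ := exists_finite_inj_algHom_of_fg k A
  algebraize [g.toRingHom]
  haveI : IsScalarTower k (MvPolynomial (Fin s) k) A :=
    IsScalarTower.of_algebraMap_eq fun c => (g.commutes c).symm
  haveI : Module.Finite (MvPolynomial (Fin s) k) A := hgfin
  haveI : Algebra.IsIntegral (MvPolynomial (Fin s) k) A := Algebra.IsIntegral.of_finite _ A
  rcases Nat.eq_zero_or_pos s with rfl | hs
  · refine ⟨ULift.{u} (Fin 0), inferInstance, 1, fun u _ => ?_, fun V _ => (Set.finite_singleton 1).subset (by simp)⟩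
    have hu : IsIntegral (MvPolynomial (Fin 0) k) (u : A) := Algebra.IsIntegral.isIntegral _
    obtain ⟨p, hp, hpu⟩ := hu
    let e : MvPolynomial (Fin 0) k →+* k := MvPolynomial.eval fun i => i.elim0
    have hring : (algebraMap k A).comp e = algebraMap (MvPolynomial (Fin 0) k) A := by
      apply MvPolynomial.ringHom_ext
      · intro c
        simp [e, IsScalarTower.algebraMap_apply k (MvPolynomial (Fin 0) k) A, MvPolynomial.algebraMap_eq]
      · exact fun i => i.elim0
    refine IsIntegral.isAlgebraic ⟨p.map e, hp.map _, ?_⟩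
    rw [Polynomial.eval₂_map, hring]
    exact hpu
  set K := FractionRing A
  have hinjK : Function.Injective (algebraMap A K) := IsFractionRing.injective A K
  let yy : Fin s → A := fun j => algebraMap (MvPolynomial (Fin s) k) A (MvPolynomial.X j)
  let y : Fin s → K := fun j => algebraMap A K (yy j)
  have hy : AlgebraicIndependent k y := by
    have h1 : AlgebraicIndependent k fun j : Fin s => (MvPolynomial.X j : MvPolynomial (Fin s) k) :=
      MvPolynomial.algebraicIndependent_X (Fin s) k
    exact h1.map' (f := (IsScalarTower.toAlgHom k A K).comp g) (hinjK.comp hg)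
  -- generators of `K`
  obtain ⟨G, hG⟩ := Algebra.FiniteType.out (R := k) (A := A)
  let E : Fin s → IntermediateField k K := fun j => IntermediateField.adjoin k (y '' {j}ᶜ)
  have hFF : ∀ j, FunField.FF (E j) K := by
    intro j
    refine ⟨y j, ?_, ?_⟩
    · exact IntermediateField.transcendental_adjoin_iff.2 ((hy.transcendental_adjoin_iff).2 (by simp))
    set L := IntermediateField.adjoin (E j) ({y j} : Set K)
    have hyL : ∀ i, y i ∈ L := by
      intro i
      rcases eq_or_ne i j with rfl | hij
      · exact IntermediateField.subset_adjoin _ _ rfl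
      · exact IntermediateField.algebraMap_mem L
          (⟨y i, IntermediateField.subset_adjoin _ _ ⟨i, hij, rfl⟩⟩ : E j)
    -- `A` is integral over `L`
    have hint : ∀ a : A, IsIntegral L (algebraMap A K a) := by
      intro a
      have hP : ∀ q : MvPolynomial (Fin s) k,
          algebraMap A K (algebraMap (MvPolynomial (Fin s) k) A q) ∈ L := by
        intro q
        induction q using MvPolynomial.induction_on with
        | C c =>
          rw [← MvPolynomial.algebraMap_eq, ← IsScalarTower.algebraMap_apply, ← IsScalarTower.algebraMap_apply]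
          exact (L.restrictScalars k).algebraMap_mem c
        | add p q hp hq => rw [map_add, map_add]; exact add_mem hp hq
        | mul_X p i hp => rw [map_mul, map_mul]; exact mul_mem hp (hyL i)
      obtain ⟨p, hp, hpa⟩ := Algebra.IsIntegral.isIntegral (R := MvPolynomial (Fin s) k) a
      let f : MvPolynomial (Fin s) k →+* L :=
        ((algebraMap A K).comp (algebraMap (MvPolynomial (Fin s) k) A)).codRestrict L hP
      refine ⟨p.map f, hp.map f, ?_⟩
      rw [Polynomial.eval₂_map, show (algebraMap L K).comp f =
        (algebraMap A K).comp (algebraMap (MvPolynomial (Fin s) k) A) from RingHom.ext fun q => rfl,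
        ← Polynomial.hom_eval₂, hpa, map_zero]
    haveI : FiniteDimensional L (IntermediateField.adjoin L (algebraMap A K '' (G : Set A))) := by
      haveI : Finite ↑(algebraMap A K '' (G : Set A)) := ((G.finite_toSet).image _).to_subtype
      exact IntermediateField.finiteDimensional_adjoin fun z ⟨a, _, hz⟩ => hz ▸ hint a
    have htop : IntermediateField.adjoin L (algebraMap A K '' (G : Set A)) = ⊤ := by
      refine eq_top_iff.2 fun z _ => ?_
      obtain ⟨a, b, -, rfl⟩ := IsFractionRing.div_surjective (A := A) z
      have hA : ∀ a : A, algebraMap A K a ∈ IntermediateField.adjoin L (algebraMap A K '' (G : Set A)) := by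
        intro a
        have ha : a ∈ Algebra.adjoin k (G : Set A) := hG ▸ trivial
        induction ha using Algebra.adjoin_induction with
        | mem x hx => exact IntermediateField.subset_adjoin _ _ ⟨x, hx, rfl⟩
        | algebraMap c =>
          rw [← IsScalarTower.algebraMap_apply, IsScalarTower.algebraMap_apply k (E j) K,
            IsScalarTower.algebraMap_apply (E j) L K]
          exact IntermediateField.algebraMap_mem _ _
        | add x y _ _ hx hy => rw [map_add]; exact add_mem hx hy
        | mul x y _ _ hx hy => rw [map_mul]; exact mul_mem hx hy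
      exact div_mem (hA a) (hA b)
    exact Module.Finite.equiv ((LinearEquiv.ofEq _ _ (congrArg
      (fun M : IntermediateField L K => M.toSubalgebra.toSubmodule) htop)).trans
      Submodule.topEquiv)
  have hfin : ∀ j, {P : Place (E j) K | P.ord (y j) < 0}.Finite := fun j =>
    (FunField.finite_support_ord (hFF j) (y j)).subset fun P hP => Function.mem_support.2 (ne_of_lt hP)
  -- away from the poles of `y j` all elements of `A` are integral
  have hreg : ∀ j (P : Place (E j) K), 0 ≤ P.ord (y j) → ∀ a : A, algebraMap A K a ∈ P.O := by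
    intro j P hP a
    have hP' : ∀ q : MvPolynomial (Fin s) k,
        algebraMap A K (algebraMap (MvPolynomial (Fin s) k) A q) ∈ P.O := by
      intro q
      induction q using MvPolynomial.induction_on with
      | C c =>
        rw [← MvPolynomial.algebraMap_eq, ← IsScalarTower.algebraMap_apply, ← IsScalarTower.algebraMap_apply,
          IsScalarTower.algebraMap_apply k (E j) K]
        exact P.2.1 _
      | add p q hp hq => rw [map_add, map_add]; exact add_mem hp hq
      | mul_X p i hp =>
        rw [map_mul, map_mul]
        refine mul_mem hp ?_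
        rcases eq_or_ne i j with rfl | hij
        · exact (FunField.ord_nonneg_iff P _).1 hP
        · exact P.2.1 (⟨y i, IntermediateField.subset_adjoin _ _ ⟨i, hij, rfl⟩⟩ : E j)
    obtain ⟨p, hp, hpa⟩ := Algebra.IsIntegral.isIntegral (R := MvPolynomial (Fin s) k) a
    let f : MvPolynomial (Fin s) k →+* P.O :=
      ((algebraMap A K).comp (algebraMap (MvPolynomial (Fin s) k) A)).codRestrict P.O hP'
    have hi : IsIntegral P.O (algebraMap A K a) := by
      refine ⟨p.map f, hp.map f, ?_⟩
      rw [Polynomial.eval₂_map, show (algebraMap P.O K).comp f =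
        (algebraMap A K).comp (algebraMap (MvPolynomial (Fin s) k) A) from RingHom.ext fun q => rfl,
        ← Polynomial.hom_eval₂, hpa, map_zero]
    obtain ⟨b, hb⟩ := IsIntegrallyClosed.isIntegral_iff.1 hi
    rw [← hb]
    exact b.2
  haveI : ∀ j, Fintype {P : Place (E j) K | P.ord (y j) < 0} := fun j => (hfin j).fintype
  have hunit0 : ∀ u : Aˣ, algebraMap A K (u : A) ≠ 0 := fun u h =>
    u.ne_zero ((map_eq_zero_iff _ hinjK).1 h)
  let φ : Aˣ →* Multiplicative ((Σ j : Fin s, {P : Place (E j) K | P.ord (y j) < 0}) → ℤ) :=
    MonoidHom.mk' (fun u => Multiplicative.ofAdd fun p => p.2.1.ord (algebraMap A K (u : A)))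
      fun u v => by
        rw [← ofAdd_add]
        congr 1
        funext p
        rw [Units.val_mul, map_mul, FunField.ord_mul _ (hunit0 u) (hunit0 v)]
        rfl
  refine ⟨_, inferInstance, φ, fun u hu => ?_, fun V hV => ?_⟩
  swap
  · exact finite_image V hV (jj := fun p => p.1) (fun p => p.2.1) φ (fun u p => rfl) hinjK
  have halg : IsAlgebraic k (algebraMap A K (u : A)) := by
    refine isAlgebraic_of_forall hy hs fun j => ?_
    refine FunField.isAlgebraic_of_mem_L_zero (hFF j) ((FunField.mem_L_iff_ord (hunit0 u)).2 fun P => ?_)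
    have : 0 ≤ P.ord (algebraMap A K (u : A)) := by
      rcases le_or_gt 0 (P.ord (y j)) with hP | hP
      · exact (FunField.ord_nonneg_iff P _).2 (hreg j P hP _)
      · exact le_of_eq (congrFun (Multiplicative.ofAdd.injective hu) ⟨j, ⟨P, hP⟩⟩).symm
    simpa using this
  exact (isAlgebraic_algebraMap_iff hinjK).1 halg

end Groth.Agent.UnitsRos
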